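import Mathlib

/-!
The arithmetic of the largest element order of `PGU_d(q)`.
-/

set_option autoImplicit false

namespace CfsgLib.UnitaryOrder51

variable {p f q d S v T : ℕ}

private theorem le_pow_pred {a : ℕ} (ha : 2 ≤ a) (b : ℕ) : b + 1 ≤ a ^ b := Nat.lt_pow_self (by omega)

/-- Multiplicities in a field that is not the prime field. -/
theorem bound_large (hq : 4 ≤ q) (hpq : 2 * p ≤ q) {n j : ℕ} (hn : 1 ≤ n) (hj : 1 ≤ j) (hT : T ≤ q ^ n + 1) :
    T * (p * j) + 1 ≤ q ^ (n + j) := by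
  obtain ⟨i, rfl⟩ : ∃ i, j = i + 1 := ⟨j - 1, by omega⟩
  have hi : i + 1 ≤ q ^ i := le_pow_pred (by omega) i
  have h1 : 2 * (T * (p * (i + 1))) ≤ (q ^ n + 1) * (q * q ^ i) :=
    calc 2 * (T * (p * (i + 1))) = T * ((2 * p) * (i + 1)) := by ring
      _ ≤ _ := Nat.mul_le_mul hT (Nat.mul_le_mul hpq hi)
  have h2 : (q ^ n + 1) * (q * q ^ i) = q ^ (n + (i + 1)) + q ^ (i + 1) := by ring
  have h3 : q ^ (i + 1) * 4 ≤ q ^ (n + (i + 1)) := by
    rw [pow_add q n, mul_comm (q ^ n)]
    exact Nat.mul_le_mul_left _ (hq.trans (Nat.le_self_pow (by omega) q))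
  have := Nat.one_le_pow (i + 1) q (by omega)
  omega

/-- Multiplicities at least two over a prime field of odd order. -/
theorem bound_prime (hq : 3 ≤ q) {n j : ℕ} (hn : 1 ≤ n) (hj : 2 ≤ j) (hT : T ≤ q ^ n + 1) :
    T * (q * j) ≤ q ^ (n + j) := by
  obtain ⟨i, rfl⟩ : ∃ i, j = i + 2 := ⟨j - 2, by omega⟩
  have hi : i + 2 ≤ 2 * q ^ i := by have := le_pow_pred (show 2 ≤ q by omega) i; omega
  have h1 : T * (q * (i + 2)) ≤ (q ^ n + 1) * (q * (2 * q ^ i)) :=
    Nat.mul_le_mul hT (Nat.mul_le_mul_left _ hi)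
  have h2 : (q ^ n + 1) * 2 ≤ q ^ n * q := by
    have h3 : q ^ n * 3 ≤ q ^ n * q := Nat.mul_le_mul_left _ hq
    have := Nat.le_self_pow (show n ≠ 0 by omega) q
    omega
  calc _ ≤ (q ^ n + 1) * (q * (2 * q ^ i)) := h1
    _ = (q ^ n + 1) * 2 * q ^ (i + 1) := by ring
    _ ≤ q ^ n * q * q ^ (i + 1) := Nat.mul_le_mul_right _ h2
    _ = _ := by ring

/-- Multiplicities at least four over the field of two elements. -/
theorem bound_two {n j : ℕ} (hn : 1 ≤ n) (hj : 4 ≤ j) (hT : T ≤ 2 ^ n + 1) :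
    T * (2 * j) ≤ 2 ^ (n + j) := by
  have hj' : 3 * j ≤ 2 ^ j := by
    clear hT
    induction j, hj using Nat.le_induction with
    | base => norm_num
    | succ k hk ih => rw [pow_succ]; omega
  obtain ⟨m, rfl⟩ : ∃ m, n = m + 1 := ⟨n - 1, by omega⟩
  have := Nat.one_le_pow m 2 (by omega)
  rw [pow_succ 2 m] at hT
  calc T * (2 * j) ≤ 3 * 2 ^ m * (2 * j) := Nat.mul_le_mul_right _ (by omega)
    _ = 3 * j * 2 ^ (m + 1) := by ring
    _ ≤ 2 ^ j * 2 ^ (m + 1) := Nat.mul_le_mul_right _ hj'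
    _ = _ := by ring

/-- Every admissible triple stays below the four stated values. -/
theorem bounds (hp : p.Prime) (hf : 1 ≤ f) (hq : q = p ^ f) (hd : 3 ≤ d) (hS : 1 ≤ S) (hSd : S ≤ d)
    (hv : 1 ≤ v → S + p ^ (v - 1) ≤ d) (h1 : S = 1 → T = 1) (h2 : 2 ≤ S → T ≤ q ^ (S - 1) + 1)
    (h3 : 3 ≤ S → Odd S → T + 1 ≤ q ^ (S - 1)) :
    (Odd d → 2 ≤ f → T * p ^ v ≤ q ^ (d - 1) - 1) ∧
    (Odd d → f = 1 → T * p ^ v ≤ (p ^ (d - 2) + 1) * p) ∧
    (Even d → 2 < q → T * p ^ v ≤ q ^ (d - 1) + 1) ∧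
    (Even d → q = 2 → T * p ^ v ≤ 4 * (2 ^ (d - 3) + 1)) := by
  obtain ⟨e, rfl⟩ : ∃ e, d = e + 3 := ⟨d - 3, by omega⟩
  simp only [show e + 3 - 1 = e + 2 by omega, show e + 3 - 2 = e + 1 by omega, show e + 3 - 3 = e by omega]
  have hp2 := hp.two_le
  have hpq : p ≤ q := hq ▸ Nat.le_self_pow (by omega) p
  have hq2 : 2 ≤ q := hp2.trans hpq
  have hlarge : 2 ≤ f → 2 * p ≤ q ∧ 4 ≤ q := fun h => by
    have h4 : p * p ≤ q := by rw [hq, ← sq]; exact Nat.pow_le_pow_right hp.pos h
    have h5 : 2 * p ≤ p * p := Nat.mul_le_mul_right _ hp2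
    omega
  have hone : f = 1 → q = p := fun h => by rw [hq, h, pow_one]
  have he1 : q ^ (e + 2) = q ^ (e + 1) * q := pow_succ _ _
  have he0 : q ^ (e + 1) = q ^ e * q := pow_succ _ _
  have hqe : 1 ≤ q ^ e := Nat.one_le_pow _ _ (by omega)
  have hqe1 : q ^ (e + 1) * 2 ≤ q ^ (e + 2) := he1 ▸ Nat.mul_le_mul_left _ hq2
  have hE1 : e + 2 ≤ q ^ (e + 1) := le_pow_pred hq2 _
  have hqe2 : 4 ≤ q ^ (e + 2) := (show 4 ≤ 2 ^ 2 by norm_num).trans
    ((Nat.pow_le_pow_left hq2 2).trans (Nat.pow_le_pow_right (by omega) (by omega)))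
  rcases Nat.eq_zero_or_pos v with rfl | hvp
  · -- semisimple
    simp only [pow_zero, mul_one]
    have hT : T ≤ q ^ (e + 2) + 1 ∧ (Odd (e + 3) → T + 1 ≤ q ^ (e + 2)) := by
      rcases eq_or_lt_of_le hS with h | h
      · rw [h1 h.symm]; exact ⟨by omega, fun _ => by omega⟩
      rcases eq_or_lt_of_le hSd with h' | h'
      · subst h'
        exact ⟨(h2 h).trans_eq (by rw [show e + 3 - 1 = e + 2 by omega]), fun ho => by
          simpa using h3 (by omega) ho⟩
      · have h4 : q ^ (S - 1) ≤ q ^ (e + 1) := Nat.pow_le_pow_right (by omega) (by omega)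
        have := h2 h
        refine ⟨by omega, fun _ => ?_⟩
        have := Nat.le_self_pow (show e + 1 ≠ 0 by omega) q
        omega
    refine ⟨fun ho _ => by have := hT.2 ho; omega, fun ho hf1 => ?_, fun _ _ => hT.1, fun _ hq2' => ?_⟩
    · have := hT.2 ho
      rw [← hone hf1, add_mul, ← he1]
      omega
    · have h4 := hT.1
      rw [hq2'] at h4
      rw [pow_succ, pow_succ] at h4
      omega
  set j := p ^ (v - 1) with hj
  clear_value j
  have hP : p ^ v = p * j := by rw [hj, ← pow_succ']; congr 1; omega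
  have hj1 : 1 ≤ j := hj ▸ Nat.one_le_pow _ _ hp.pos
  have hSj := hv hvp
  rw [hP]
  rcases eq_or_lt_of_le hS with hS1 | hS2
  · -- one eigenvalue
    rw [h1 hS1.symm, one_mul]
    have hje : j ≤ e + 2 := by omega
    have hpj : p * j ≤ p * q ^ (e + 1) := Nat.mul_le_mul_left _ (hje.trans hE1)
    refine ⟨fun _ hf2 => ?_, fun _ hf1 => ?_, fun _ _ => ?_, fun _ hq2' => ?_⟩
    · obtain ⟨h4, h5⟩ := hlarge hf2
      have h6 : 2 * (p * q ^ (e + 1)) ≤ q ^ (e + 2) := by
        rw [← mul_assoc, he1, mul_comm (q ^ (e + 1)) q]; exact Nat.mul_le_mul_right _ h4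
      omega
    · rw [hone hf1] at hpj
      rw [mul_comm _ p]
      exact hpj.trans (Nat.mul_le_mul_left _ (Nat.le_succ _))
    · have h6 : p * q ^ (e + 1) ≤ q ^ (e + 2) := by
        rw [he1, mul_comm (q ^ (e + 1)) q]; exact Nat.mul_le_mul_right _ hpq
      omega
    · obtain rfl : p = 2 := by omega
      have h7 : e + 1 ≤ 2 ^ e := le_pow_pred le_rfl e
      omega
  obtain ⟨n, hn, hSn⟩ : ∃ n, 1 ≤ n ∧ S = n + 1 := ⟨S - 1, by omega, by omega⟩
  subst hSn
  have hT : T ≤ q ^ n + 1 := by simpa using h2 (by omega)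
  have hT' : Even n → 2 ≤ n → T + 1 ≤ q ^ n := fun hev h => by simpa using h3 (by omega) hev.add_one
  by_cases hf2 : 2 ≤ f
  · obtain ⟨h4, h5⟩ := hlarge hf2
    have h6 := bound_large h5 h4 hn hj1 hT
    have h7 : q ^ (n + j) ≤ q ^ (e + 2) := Nat.pow_le_pow_right (by omega) (by omega)
    exact ⟨fun _ _ => by omega, fun _ h => by omega, fun _ _ => by omega,
      fun _ h => by omega⟩
  obtain rfl : f = 1 := by omega
  rw [pow_one] at hq
  subst hq
  refine ⟨fun _ h => by omega, fun hodd _ => ?_, fun hev hq3 => ?_, fun hev hq2' => ?_⟩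
  · rcases eq_or_lt_of_le hj1 with hj1' | hj2
    · rw [← hj1', mul_one]
      exact Nat.mul_le_mul_right _ (hT.trans
        (Nat.add_le_add_right (Nat.pow_le_pow_right (by omega) (by omega)) 1))
    · rcases Nat.lt_or_ge q 3 with hq3 | hq3
      · obtain rfl : q = 2 := by omega
        rcases Nat.lt_or_ge j 4 with hj4 | hj4
        · obtain rfl : j = 2 := by
            rcases Nat.lt_or_ge (v - 1) 2 with h | h
            · rcases Nat.eq_zero_or_pos (v - 1) with h0 | h0
              · rw [hj, h0] at hj2; simp at hj2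
              · rw [hj, show v - 1 = 1 by omega, pow_one]
            · have : 2 ^ 2 ≤ j := hj ▸ Nat.pow_le_pow_right (by omega) h
              omega
          rcases eq_or_lt_of_le (show n ≤ e by omega) with rfl | hne
          · have := hT' (by obtain ⟨k, hk⟩ := hodd; exact ⟨k - 1, by omega⟩)
              (by obtain ⟨k, hk⟩ := hodd; omega)
            rw [pow_succ 2 n] at hqe1 ⊢
            omega
          · have h8 : 2 ^ n * 2 ≤ 2 ^ e := by
              rw [← pow_succ]; exact Nat.pow_le_pow_right (by omega) hne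
            rw [pow_succ 2 e]
            omega
        · have h8 := bound_two hn hj4 hT
          have h9 : 2 ^ (n + j) ≤ 2 ^ (e + 2) := Nat.pow_le_pow_right (by omega) (by omega)
          rw [pow_succ 2 (e + 1)] at h9
          omega
      · have h8 := bound_prime hq3 hn hj2 hT
        have h9 : q ^ (n + j) ≤ q ^ (e + 2) := Nat.pow_le_pow_right (by omega) (by omega)
        rw [add_mul, ← he1]
        omega
  · rcases eq_or_lt_of_le hj1 with hj1' | hj2
    · rw [← hj1', mul_one]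
      rcases eq_or_lt_of_le (show n ≤ e + 1 by omega) with rfl | hne
      · have h10 := hT' (by obtain ⟨k, hk⟩ := hev; exact ⟨k - 1, by omega⟩) (by obtain ⟨k, hk⟩ := hev; omega)
        have := Nat.mul_le_mul_right q h10
        rw [add_mul, ← he1] at this
        omega
      · have h11 : T * q ≤ (q ^ e + 1) * q := Nat.mul_le_mul_right _ (hT.trans
          (Nat.add_le_add_right (Nat.pow_le_pow_right (by omega) (by omega)) 1))
        rw [add_mul, ← he0] at h11
        have := Nat.le_self_pow (show e + 1 ≠ 0 by omega) q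
        omega
    · have h8 := bound_prime (by omega) hn hj2 hT
      have h9 : q ^ (n + j) ≤ q ^ (e + 2) := Nat.pow_le_pow_right (by omega) (by omega)
      omega
  · subst hq2'
    rcases Nat.lt_or_ge j 4 with hj4 | hj4
    · have hj3 : j = 1 ∨ j = 2 := by
        rcases Nat.lt_or_ge (v - 1) 2 with h | h
        · rcases Nat.eq_zero_or_pos (v - 1) with h0 | h0
          · left; rw [hj, h0, pow_zero]
          · right; rw [hj, show v - 1 = 1 by omega, pow_one]
        · have : 2 ^ 2 ≤ j := hj ▸ Nat.pow_le_pow_right (by omega) h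
          omega
      rcases hj3 with h | h
      · rw [h]
        have h12 : 2 ^ n ≤ 2 ^ (e + 1) := Nat.pow_le_pow_right (by omega) (by omega)
        rw [pow_succ 2 e] at h12
        omega
      · rw [h]
        have h12 : 2 ^ n ≤ 2 ^ e := Nat.pow_le_pow_right (by omega) (by omega)
        omega
    · have h8 := bound_two hn hj4 hT
      have h9 : 2 ^ (n + j) ≤ 2 ^ (e + 2) := Nat.pow_le_pow_right (by omega) (by omega)
      rw [pow_succ 2 (e + 1), pow_succ 2 e] at h9
      omega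

end CfsgLib.UnitaryOrder51
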