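import Cfsg.Agent.Lib.SemisimpleClass.UnitaryCount

/-!
A cyclic unitary matrix for every conjugate-reciprocal monic polynomial, with no condition on the determinant
(the argument of `SemisimpleClass.exists_cyclic_elem_of_isURec`).
-/

set_option autoImplicit false

namespace CfsgLib.UnitaryOrder51

open Polynomial Matrix CfsgLib.CharBound.SUn CfsgLib.SemisimpleClass Module

variable {F : Type*} [Field F] [Fintype F] {n q : ℕ} (hF : Fintype.card F = q ^ 2)
include hF

/-- A monic polynomial `f` whose conjugate is its monic reverse occurs as minimal polynomial in `GU_n`. -/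
theorem exists_cyclic {f : F[X]} (hfm : f.Monic) (hfn : f.natDegree = n) (hf0 : f.coeff 0 ≠ 0)
    (hrec : f.map (conj hF).σ = C ((conj hF).σ (f.coeff 0)) * f.reverse) (hn : 1 ≤ n) :
    ∃ M : Matrix (Fin n) (Fin n) F, adjM hF M * M = 1 ∧ ∀ P : F[X], Polynomial.aeval M P = 0 → f ∣ P := by
  classical
  let σ := (conj hF).σ
  let A := AdjoinRoot f
  let ρ : A := AdjoinRoot.root f
  let pb := AdjoinRoot.powerBasis hfm.ne_zero
  haveI : Module.Finite F A := pb.finite
  haveI : Finite A := Module.finite_of_finite F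
  have hρu : IsUnit ρ := by
    have h1 : ρ * AdjoinRoot.mk f f.divX = -algebraMap F A (f.coeff 0) := by
      rw [eq_neg_iff_add_eq_zero, AdjoinRoot.algebraMap_eq, ← AdjoinRoot.mk_C,
        show ρ = AdjoinRoot.mk f Polynomial.X from AdjoinRoot.mk_X.symm, ← map_mul,
        ← map_add, X_mul_divX_add, AdjoinRoot.mk_self]
    exact isUnit_of_mul_isUnit_left (x := ρ) (y := AdjoinRoot.mk f f.divX)
      (h1 ▸ ((isUnit_iff_ne_zero.mpr hf0).map (algebraMap F A)).neg)
  -- the involution
  have hroot : eval₂ ((AdjoinRoot.of f).comp σ) (↑hρu.unit⁻¹ : A) f = 0 := by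
    letI : Invertible ρ := hρu.unit.invertible
    rw [← eval₂_map, show f.map σ = _ from hrec, eval₂_mul, show (↑hρu.unit⁻¹ : A) = ⅟ρ from rfl,
      (eval₂_reverse_eq_zero_iff _ _ _).mpr (AdjoinRoot.eval₂_root f), mul_zero]
  let ι : A →+* A := AdjoinRoot.lift ((AdjoinRoot.of f).comp σ) (↑hρu.unit⁻¹ : A) hroot
  have hιof : ∀ c, ι (algebraMap F A c) = algebraMap F A (σ c) := fun c => by
    rw [AdjoinRoot.algebraMap_eq]; exact AdjoinRoot.lift_of hroot
  have hιρ : ι ρ = ↑hρu.unit⁻¹ := AdjoinRoot.lift_root hroot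
  have hιρ' : ι ρ * ρ = 1 := by rw [hιρ]; exact hρu.val_inv_mul
  have hιι : ∀ a, ι (ι a) = a := by
    intro a
    obtain ⟨p, rfl⟩ := AdjoinRoot.mk_surjective a
    induction p using Polynomial.induction_on with
    | C c => rw [AdjoinRoot.mk_C, ← AdjoinRoot.algebraMap_eq, hιof, hιof, (conj hF).hσ2]
    | add p p' hp hp' => rw [map_add, map_add, map_add, hp, hp']
    | monomial k c ih =>
      have h2 : ι (ι ρ) = ρ := by
        have h3 := congrArg ι hιρ'
        rw [map_mul, map_one] at h3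
        calc ι (ι ρ) = ι (ι ρ) * (ι ρ * ρ) := by rw [hιρ', mul_one]
          _ = ρ := by rw [← mul_assoc, h3, one_mul]
      rw [show C c * Polynomial.X ^ (k + 1) = C c * Polynomial.X ^ k * Polynomial.X by ring,
        map_mul (AdjoinRoot.mk f), map_mul ι, map_mul ι, ih, AdjoinRoot.mk_X, h2]
  let ιe : A ≃+* A := { ι with invFun := ι, left_inv := hιι, right_inv := hιι }
  have hιs : ∀ (c : F) (a : A), ι (c • a) = σ c • ι a := fun c a => by
    rw [Algebra.smul_def, Algebra.smul_def, map_mul, hιof]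
  -- the top coefficient
  let φ0 : A →ₗ[F] F := (Polynomial.lcoeff F (n - 1)).comp (AdjoinRoot.modByMonicHom hfm)
  have hφ0nd : ∀ u : A, (∀ a, φ0 (u * a) = 0) → u = 0 := by
    intro u hu
    rw [← AdjoinRoot.mk_leftInverse hfm u]
    set h := AdjoinRoot.modByMonicHom hfm u with hh
    by_contra hne
    have hh0 : h ≠ 0 := fun e => hne (by rw [e, map_zero])
    have hdeg : h.natDegree < n := by
      obtain ⟨p, rfl⟩ := AdjoinRoot.mk_surjective u
      rw [hh, AdjoinRoot.modByMonicHom_mk hfm]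
      refine lt_of_lt_of_eq (natDegree_modByMonic_lt p hfm fun h1 => ?_) hfn
      rw [h1, natDegree_one] at hfn; omega
    have h1 := hu (AdjoinRoot.mk f (Polynomial.X ^ (n - 1 - h.natDegree)))
    rw [← AdjoinRoot.mk_leftInverse hfm u, ← hh, ← map_mul] at h1
    change ((AdjoinRoot.modByMonicHom hfm) (AdjoinRoot.mk f (h * Polynomial.X ^ (n - 1 - h.natDegree)))).coeff (n - 1) = 0 at h1
    rw [AdjoinRoot.modByMonicHom_mk hfm, (modByMonic_eq_self_iff hfm).mpr (by
        rw [degree_eq_natDegree hfm.ne_zero, degree_mul, degree_X_pow, degree_eq_natDegree hh0, hfn,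
          ← Nat.cast_add]
        exact_mod_cast (by omega : h.natDegree + (n - 1 - h.natDegree) < n)), coeff_mul_X_pow',
      if_pos (Nat.sub_le _ _), show n - 1 - (n - 1 - h.natDegree) = h.natDegree by omega] at h1
    exact hh0 (leadingCoeff_eq_zero.mp h1)
  -- the conjugated functional is a unit multiple
  let φ1 : A →ₗ[F] F :=
    { toFun := fun a => σ (φ0 (ι a))
      map_add' := fun a b => by rw [map_add, map_add, map_add]
      map_smul' := fun c a => by rw [hιs, map_smul, smul_eq_mul, map_mul, (conj hF).hσ2]; rfl }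
  let Φ : A → (A →ₗ[F] F) := fun u => φ0.comp (LinearMap.mulLeft F u)
  have hΦ : Function.Injective Φ := fun u u' h => sub_eq_zero.mp (hφ0nd _ fun a => by
    rw [sub_mul, map_sub, sub_eq_zero]; exact LinearMap.congr_fun h a)
  haveI : Finite (A →ₗ[F] F) := Module.finite_of_finite F
  haveI : Fintype A := Fintype.ofFinite _
  haveI : Fintype (A →ₗ[F] F) := Fintype.ofFinite _
  have hcardA : Fintype.card A = Fintype.card (A →ₗ[F] F) := by
    rw [Module.card_eq_pow_finrank (K := F) (V := A), Module.card_eq_pow_finrank (K := F) (V := A →ₗ[F] F),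
      Subspace.dual_finrank_eq]
  obtain ⟨u, hu⟩ := ((Fintype.bijective_iff_injective_and_card Φ).mpr ⟨hΦ, hcardA⟩).2 φ1
  have hu' : ∀ a, φ0 (u * a) = σ (φ0 (ι a)) := fun a => LinearMap.congr_fun hu a
  have huu : u * ι u = 1 := by
    refine sub_eq_zero.mp (hφ0nd _ fun a => ?_)
    rw [sub_mul, one_mul, map_sub, sub_eq_zero, mul_assoc, hu', map_mul, hιι, hu', hιι, (conj hF).hσ2]
  -- solve `u ι c = c` with `c` a unit
  obtain ⟨r₀, hr₀⟩ : ∃ r : F, σ r ≠ r := by
    obtain ⟨τ, hτ, hne, -⟩ := CfsgLib.UnitaryEmbed.exists_conj hF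
    by_contra hall
    push Not at hall
    refine hne (RingHom.ext fun x => ?_)
    rw [hτ, ← (conj hF).hσ]; exact hall x
  let ιu : Aˣ →* Aˣ := Units.map ι.toMonoidHom
  let Nm : Aˣ →* Aˣ := MonoidHom.id Aˣ * ιu
  let Hm : Aˣ →* Aˣ := MonoidHom.id Aˣ / ιu
  let uu : Aˣ := ⟨u, ι u, huu, by rw [mul_comm]; exact huu⟩
  have hιu2 : ∀ c : Aˣ, ιu (ιu c) = c := fun c => Units.ext (hιι _)
  have hrange : Nm.range = Hm.ker := by
    ext c
    simp only [MonoidHom.mem_range, MonoidHom.mem_ker, Nm, Hm, MonoidHom.mul_apply, MonoidHom.div_apply,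
      MonoidHom.id_apply, div_eq_one]
    constructor
    · rintro ⟨a, rfl⟩; rw [map_mul, hιu2, mul_comm]
    · intro hc
      obtain ⟨a, ha⟩ := IsomConj.exists_norm_eq ιe hιι (algebraMap F A r₀) (by
        show IsUnit (algebraMap F A r₀ - ι (algebraMap F A r₀))
        rw [hιof, ← map_sub]
        exact (isUnit_iff_ne_zero.mpr (sub_ne_zero.mpr (Ne.symm hr₀))).map _) c
        (show ι c = (c : A) from congrArg Units.val hc.symm)
      have hau : IsUnit a := isUnit_of_mul_isUnit_right (x := ι a) (y := a) (show IsUnit (ι a * a) by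
        rw [show ι a * a = (c : A) from ha]; exact c.isUnit)
      exact ⟨hau.unit, Units.ext (by
        show a * ι a = c
        rw [mul_comm]; exact ha)⟩
  have hker : Hm.range = Nm.ker := by
    refine Subgroup.eq_of_le_of_card_ge ?_ (le_of_eq ?_)
    · rintro _ ⟨a, rfl⟩
      simp only [MonoidHom.mem_ker, Nm, Hm, MonoidHom.mul_apply, MonoidHom.div_apply, MonoidHom.id_apply, _root_.map_div,
        hιu2]
      rw [mul_comm (ιu a) a, div_self']
    · have e1 := Subgroup.card_mul_index Hm.ker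
      rw [Subgroup.index_ker] at e1
      have e2 := Subgroup.card_mul_index Nm.ker
      rw [Subgroup.index_ker, hrange, mul_comm] at e2
      exact Nat.eq_of_mul_eq_mul_left Nat.card_pos (e2.trans e1.symm)
  obtain ⟨c, hc⟩ : uu ∈ Hm.range := by
    rw [hker, MonoidHom.mem_ker]
    exact Units.ext huu
  have hcc : u * ι c = (c : A) := by
    have h1 : c = uu * ιu c := div_eq_iff_eq_mul.mp hc
    conv_rhs => rw [h1]
    rfl
  -- the form
  let τ : F →+* F := σ
  let B : A →ₛₗ[τ] A →ₗ[F] F :=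
    LinearMap.mk₂'ₛₗ τ (RingHom.id F) (fun a b => φ0 (c * b * ι a))
      (fun a a' b => by rw [map_add, mul_add, map_add])
      (fun r a b => by rw [hιs, mul_smul_comm, map_smul])
      (fun a b b' => by rw [mul_add, add_mul, map_add])
      (fun r a b => by rw [mul_smul_comm, smul_mul_assoc, map_smul]; rfl)
  have hB : ∀ a b, B a b = φ0 (c * b * ι a) := fun a b => rfl
  have hBS : ∀ a b, τ (B a b) = B b a := fun a b => by
    rw [hB, hB]
    have h1 : (c * a * ι b : A) = u * ι (c * b * ι a) := by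
      rw [map_mul, map_mul, hιι, ← mul_assoc u, ← mul_assoc u, hcc]; ring
    rw [h1, hu', hιι]
  have hBnd : B.SeparatingLeft := fun a ha => by
    have h1 : ι a = 0 := hφ0nd _ fun z => by
      have := ha ((↑c⁻¹ : A) * z)
      rw [hB, ← mul_assoc, Units.mul_inv, one_mul, mul_comm] at this
      exact this
    rw [← hιι a, h1, map_zero]
  have hτne : τ ≠ RingHom.id F := fun h => hr₀ (by show τ r₀ = r₀; rw [h]; rfl)
  obtain ⟨e, he⟩ := CfsgLib.UnitaryEmbed.exists_std_equiv hF τ (fun x => (conj hF).hσ x) hτne (conj hF).hσ2 B hBS hBnd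
    (by rw [pb.finrank, AdjoinRoot.powerBasis_dim hfm.ne_zero, hfn])
  let L : (Fin n → F) →ₗ[F] (Fin n → F) := (e.symm.conj) (Algebra.lmul F A ρ)
  let M := LinearMap.toMatrix' L
  have hL : ∀ v, e (L v) = ρ * e v := fun v => by simp [L, LinearEquiv.conj_apply]
  have hpres : ∀ u v, Cfsg.hermForm n F q (M *ᵥ u) (M *ᵥ v) = Cfsg.hermForm n F q u v := fun u v => by
    rw [LinearMap.toMatrix'_mulVec, LinearMap.toMatrix'_mulVec, ← he, ← he, hL, hL, hB, hB, map_mul ι]
    congr 1
    linear_combination (c * e u * ι (e v)) * hιρ'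
  have hM : adjM hF M * M = 1 := by
    refine Matrix.ext_of_mulVec_single fun j => ?_
    refine sub_eq_zero.mp (eq_zero_of_orth hF fun w => ?_)
    rw [← mulVec_mulVec, one_mulVec, (conj hF).sub_right, ← adjM_adj hF, hpres, sub_self]
  have hmin : ∀ P : F[X], Polynomial.aeval M P = 0 → f ∣ P := fun P hP => by
    have h1 : Polynomial.aeval L P = 0 := by
      rw [show M = LinearMap.toMatrixAlgEquiv' L from rfl, Polynomial.aeval_algEquiv, AlgHom.comp_apply] at hP
      exact (map_eq_zero_iff _ LinearMap.toMatrixAlgEquiv'.injective).mp hP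
    rw [show L = (LinearEquiv.conjAlgEquiv F e.symm) (Algebra.lmul F A ρ) from rfl, Polynomial.aeval_algEquiv,
      AlgHom.comp_apply] at h1
    have h2 : Polynomial.aeval (Algebra.lmul F A ρ) P = 0 :=
      (map_eq_zero_iff _ (LinearEquiv.conjAlgEquiv F e.symm).injective).mp h1
    rw [Polynomial.aeval_algHom_apply] at h2
    have h3 := LinearMap.congr_fun h2 1
    simp only [Algebra.coe_lmul_eq_mul, LinearMap.mul_apply', mul_one, LinearMap.zero_apply] at h3
    rwa [AdjoinRoot.aeval_eq, AdjoinRoot.mk_eq_zero] at h3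
  exact ⟨M, hM, hmin⟩

end CfsgLib.UnitaryOrder51
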