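import Cfsg.Agent.Lib.SpecUnitary.RootTwist

/-!
Common exponents of finite sets closed under `x ↦ x^(-q)`.
-/

set_option autoImplicit false

namespace CfsgLib.UnitaryOrder51

open CfsgLib.PSUTwist

/-- `|(-q)^D - 1|` -/
def torusM (q D : ℕ) : ℕ := torusN q D * (q + 1)

theorem torusM_eq_of_even {q D : ℕ} (hq : 1 ≤ q) (hD : Even D) : torusM q D = q ^ D - 1 := by
  rw [torusM, ← torusN_mul, hD.neg_pow, show ((q : ℤ) ^ D - 1) = ((q ^ D - 1 : ℕ) : ℤ) by
    rw [Nat.cast_sub (Nat.one_le_pow D q hq)]; push_cast; rfl]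
  exact Int.natAbs_natCast _

theorem torusM_eq_of_odd {q D : ℕ} (hD : Odd D) : torusM q D = q ^ D + 1 := by
  rw [torusM, ← torusN_mul, hD.neg_pow, show (-((q : ℤ) ^ D) - 1) = -((q ^ D + 1 : ℕ) : ℤ) by push_cast; ring,
    Int.natAbs_neg, Int.natAbs_natCast]

theorem torusM_le {q : ℕ} (hq : 1 ≤ q) (D : ℕ) : torusM q D ≤ q ^ D + 1 := by
  rcases Nat.even_or_odd D with h | h
  · rw [torusM_eq_of_even hq h]; omega
  · rw [torusM_eq_of_odd h]

theorem torusN_lt {q D : ℕ} (hq : 2 ≤ q) (hD : 2 ≤ D) : torusN q D + 1 ≤ q ^ (D - 1) := by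
  obtain ⟨j, rfl⟩ : ∃ j, D = j + 1 := ⟨D - 1, by omega⟩
  have h := torusM_le (show 1 ≤ q by omega) (j + 1)
  rw [torusM] at h
  have h2 : q ≤ q ^ j := Nat.le_self_pow (by omega) q
  have h3 : torusN q (j + 1) * (q + 1) < q ^ j * (q + 1) := by
    rw [pow_succ] at h
    calc _ ≤ q ^ j * q + 1 := h
      _ < q ^ j * q + q ^ j := by omega
      _ = _ := by ring
  simpa using Nat.lt_of_mul_lt_mul_right h3

theorem torusN_le_pow {q D : ℕ} (hq : 2 ≤ q) (hD : 1 ≤ D) : torusN q D ≤ q ^ (D - 1) := by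
  rcases eq_or_lt_of_le hD with rfl | h
  · simp [torusN_one]
  · have := torusN_lt hq h; omega

theorem torusN_pos {q D : ℕ} (hq : 2 ≤ q) (hD : 1 ≤ D) : 0 < torusN q D := by
  rcases Nat.eq_zero_or_pos (torusN q D) with h | h
  · have hM : torusM q D = 0 := by rw [torusM, h, zero_mul]
    rcases Nat.even_or_odd D with hd | hd
    · rw [torusM_eq_of_even (by omega) hd] at hM
      have : q ≤ q ^ D := Nat.le_self_pow (by omega) q
      omega
    · rw [torusM_eq_of_odd hd] at hM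
      omega
  · exact h

/-- Two orbits, none a fixed point. -/
theorem two_orbit_bound {q a b : ℕ} (hq : 2 ≤ q) (ha : 2 ≤ a) (hb : 2 ≤ b) :
    torusM q a * torusN q b + 1 ≤ q ^ (a + b - 1) := by
  rcases Nat.lt_or_ge (a + b) 5 with h | h
  · obtain ⟨rfl, rfl⟩ : a = 2 ∧ b = 2 := by omega
    have hM := torusM_eq_of_even (show 1 ≤ q by omega) (show Even 2 from even_two)
    have hN : torusN q 2 + 1 ≤ q ^ (2 - 1) := torusN_lt hq le_rfl
    rw [hM]
    have h4 : q ^ 2 - 1 + 1 = q ^ 2 := by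
      have := Nat.one_le_pow 2 q (by omega); omega
    simp only [Nat.add_one_sub_one, pow_one] at hN ⊢
    have h5 : q ^ 2 * (torusN q 2 + 1) ≤ q ^ 2 * q := Nat.mul_le_mul_left _ hN
    have h6 : (q ^ 2 - 1) * torusN q 2 ≤ q ^ 2 * torusN q 2 := Nat.mul_le_mul_right _ (Nat.sub_le _ _)
    rw [mul_add, mul_one] at h5
    rw [pow_succ q 2]
    omega
  obtain ⟨i, rfl⟩ : ∃ i, a = i + 2 := ⟨a - 2, by omega⟩
  obtain ⟨j, rfl⟩ : ∃ j, b = j + 2 := ⟨b - 2, by omega⟩
  rw [show i + 2 + (j + 2) - 1 = i + j + 2 + 1 by omega]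
  have h1 : torusM q (i + 2) * torusN q (j + 2) * (q + 1) ≤ (q ^ (i + 2) + 1) * (q ^ (j + 2) + 1) := by
    rw [mul_assoc]
    exact Nat.mul_le_mul (torusM_le (by omega) _) (torusM_le (by omega) _)
  have hsum : q ^ (i + 2) + q ^ (j + 2) ≤ q ^ 2 + q ^ (i + j + 2) := by
    have h2 : q ^ i + q ^ j ≤ 1 + q ^ (i + j) := by
      rw [pow_add]
      have := Nat.one_le_pow i q (by omega)
      have := Nat.one_le_pow j q (by omega)
      nlinarith
    calc q ^ (i + 2) + q ^ (j + 2) = (q ^ i + q ^ j) * q ^ 2 := by ring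
      _ ≤ (1 + q ^ (i + j)) * q ^ 2 := Nat.mul_le_mul_right _ h2
      _ = _ := by ring
  have h3 : q ^ 3 ≤ q ^ (i + j + 2) := Nat.pow_le_pow_right (by omega) (by omega)
  have hkey : (q ^ (i + 2) + 1) * (q ^ (j + 2) + 1) + (q + 1) ≤ q ^ (i + j + 2 + 1) * (q + 1) := by
    have e1 : (q ^ (i + 2) + 1) * (q ^ (j + 2) + 1) =
        q ^ (i + j + 2) * q ^ 2 + (q ^ (i + 2) + q ^ (j + 2)) + 1 := by ring
    have e2 : q ^ (i + j + 2 + 1) * (q + 1) = q ^ (i + j + 2) * q ^ 2 + q ^ (i + j + 2) * q := by ring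
    have h5 : q ^ 2 + q + 2 ≤ q ^ 3 := by
      have h6 : q ^ 2 * 2 ≤ q ^ 2 * q := Nat.mul_le_mul_left _ hq
      have h7 : q * 2 ≤ q * q := Nat.mul_le_mul_left _ hq
      rw [pow_succ q 2]
      rw [sq] at h6 ⊢
      omega
    have h4 : q ^ 2 + q ^ (i + j + 2) + (q + 2) ≤ q ^ (i + j + 2) * q := by
      have : q ^ (i + j + 2) * 2 ≤ q ^ (i + j + 2) * q := Nat.mul_le_mul_left _ hq
      omega
    omega
  have h5 : (torusM q (i + 2) * torusN q (j + 2) + 1) * (q + 1) ≤ q ^ (i + j + 2 + 1) * (q + 1) := by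
    rw [add_mul, one_mul]; omega
  exact Nat.le_of_mul_le_mul_right h5 (by omega)

variable {K : Type*} [Field K] {q : ℕ}

theorem pow_torusM_of_periodic {x : K} (hx : x ≠ 0) {D : ℕ} (h : (tau q)^[D] x = x) :
    x ^ torusM q D = 1 := (periodic_iff hx D).1 h

theorem iterate_tau_one (i : ℕ) : (tau q)^[i] (1 : K) = 1 :=
  Function.iterate_fixed (show tau q (1 : K) = 1 by simp [tau]) i

open scoped Classical in
/-- Split off the orbit of a point. -/
theorem exists_orbit (hinj : Function.Injective (tau q : K → K)) {Λ : Finset K}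
    (hmaps : ∀ x ∈ Λ, tau q x ∈ Λ) {x : K} (hx : x ∈ Λ) :
    ∃ D, 1 ≤ D ∧ (tau q)^[D] x = x ∧ ∃ Λ' : Finset K, Λ' ⊆ Λ ∧ Λ'.card + D = Λ.card ∧
      (∀ y ∈ Λ', tau q y ∈ Λ') ∧ ∀ y ∈ Λ, y ∈ Λ' ∨ ∃ i < D, (tau q)^[i] x = y := by
  have hit : ∀ i, (tau q)^[i] x ∈ Λ := fun i => by
    induction i with
    | zero => exact hx
    | succ i ih => rw [Function.iterate_succ_apply']; exact hmaps _ ih
  have hper : 0 < Function.minimalPeriod (tau q) x := by
    refine Function.minimalPeriod_pos_of_mem_periodicPts ?_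
    let f : Λ → Λ := fun y => ⟨tau q y.1, hmaps _ y.2⟩
    have hf : Function.Injective f := fun a b h => Subtype.ext (hinj (congrArg Subtype.val h))
    obtain ⟨N, hN, hpN⟩ := hf.mem_periodicPts ⟨x, hx⟩
    exact ⟨N, hN, hpN.map (g := fun y : Λ => y.1) (fun _ => rfl)⟩
  set D := Function.minimalPeriod (tau q) x
  have hD : (tau q)^[D] x = x := Function.iterate_minimalPeriod
  set O := (Finset.range D).image fun i => (tau q)^[i] x with hO
  have hsub : O ⊆ Λ := fun y hy => by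
    obtain ⟨i, -, rfl⟩ := Finset.mem_image.1 hy; exact hit i
  have hcard : O.card = D := by
    rw [hO, Finset.card_image_of_injOn, Finset.card_range]
    intro i hi j hj h
    exact Function.iterate_injOn_Iio_minimalPeriod (Finset.mem_range.1 hi) (Finset.mem_range.1 hj) h
  refine ⟨D, hper, hD, Λ \ O, Finset.sdiff_subset, ?_, fun y hy => ?_, fun y hy => ?_⟩
  · rw [← hcard, Finset.card_sdiff_add_card_eq_card hsub]
  · obtain ⟨hy1, hy2⟩ := Finset.mem_sdiff.1 hy
    refine Finset.mem_sdiff.2 ⟨hmaps y hy1, fun h => hy2 ?_⟩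
    obtain ⟨i, hi, hiy⟩ := Finset.mem_image.1 h
    rw [Finset.mem_range] at hi
    refine Finset.mem_image.2 ?_
    rcases i with _ | i
    · refine ⟨D - 1, Finset.mem_range.2 (by omega), hinj ?_⟩
      rw [← Function.iterate_succ_apply' (tau q) (D - 1) x, Nat.succ_eq_add_one, Nat.sub_add_cancel hper, hD, ← hiy]
      rfl
    · refine ⟨i, Finset.mem_range.2 (by omega), hinj ?_⟩
      rw [← Function.iterate_succ_apply' (tau q) i x]
      exact hiy
  · by_cases h : y ∈ O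
    · obtain ⟨i, hi, rfl⟩ := Finset.mem_image.1 h
      exact Or.inr ⟨i, Finset.mem_range.1 hi, rfl⟩
    · exact Or.inl (Finset.mem_sdiff.2 ⟨hy, h⟩)

/-- A common exponent divisible by `q + 1`. -/
theorem exists_exponent_dvd (hq : 2 ≤ q) (hinj : Function.Injective (tau q : K → K)) :
    ∀ (s : ℕ) (Λ : Finset K), Λ.card = s → 1 ≤ s → (∀ x ∈ Λ, x ≠ 0) → (∀ x ∈ Λ, tau q x ∈ Λ) →
      ∃ T, 0 < T ∧ q + 1 ∣ T ∧ (∀ x ∈ Λ, x ^ T = 1) ∧ T ≤ (q + 1) * q ^ (s - 1) := by
  intro s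
  induction s using Nat.strong_induction_on with
  | _ s ih =>
    intro Λ hs h1 h0 hmaps
    obtain ⟨x, hx⟩ := Finset.card_pos.1 (show 0 < Λ.card by omega)
    obtain ⟨D, hD1, hD, Λ', hsub, hcard, hmaps', hcov⟩ := exists_orbit hinj hmaps hx
    have hN := torusN_pos hq hD1
    have horb : ∀ i : ℕ, ((tau q)^[i] x) ^ torusM q D = 1 := fun i => by
      rw [iterate_tau_pow, pow_torusM_of_periodic (h0 x hx) hD, iterate_tau_one]
    rcases Nat.eq_zero_or_pos Λ'.card with hz | hpos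
    · refine ⟨torusM q D, Nat.mul_pos hN (by omega), dvd_mul_left _ _, fun y hy => ?_, ?_⟩
      · rcases hcov y hy with h | ⟨i, -, rfl⟩
        · rw [Finset.card_eq_zero.1 hz] at h; exact absurd h (Finset.notMem_empty y)
        · exact horb i
      · rw [torusM, mul_comm, show s = D by omega]
        exact Nat.mul_le_mul_left _ (torusN_le_pow hq hD1)
    · obtain ⟨T', hT0, ⟨t, ht⟩, hT, hTle⟩ :=
        ih Λ'.card (by omega) Λ' rfl hpos (fun y hy => h0 y (hsub hy)) hmaps'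
      refine ⟨torusN q D * T', Nat.mul_pos hN hT0, Dvd.dvd.mul_left ⟨t, ht⟩ _, fun y hy => ?_, ?_⟩
      · rcases hcov y hy with h | ⟨i, -, rfl⟩
        · rw [mul_comm, pow_mul, hT y h, one_pow]
        · rw [ht, ← mul_assoc, pow_mul, show torusN q D * (q + 1) = torusM q D from rfl, horb i, one_pow]
      · calc torusN q D * T' ≤ q ^ (D - 1) * ((q + 1) * q ^ (Λ'.card - 1)) :=
              Nat.mul_le_mul (torusN_le_pow hq hD1) hTle
          _ = (q + 1) * q ^ (D - 1 + (Λ'.card - 1)) := by ring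
          _ ≤ (q + 1) * q ^ (s - 1) :=
              Nat.mul_le_mul_left _ (Nat.pow_le_pow_right (by omega) (by omega))

/-- A common power of the elements of a closed set, with the sharp bound. -/
theorem exists_common_power (hq : 2 ≤ q) (hinj : Function.Injective (tau q : K → K)) {Λ : Finset K}
    (hne : Λ.Nonempty) (h0 : ∀ x ∈ Λ, x ≠ 0) (hmaps : ∀ x ∈ Λ, tau q x ∈ Λ) :
    ∃ (T : ℕ) (s : K), 0 < T ∧ (∀ x ∈ Λ, x ^ T = s) ∧ (Λ.card = 1 → T = 1) ∧
      (2 ≤ Λ.card → T ≤ q ^ (Λ.card - 1) + 1) ∧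
      (3 ≤ Λ.card → Odd Λ.card → T + 1 ≤ q ^ (Λ.card - 1)) := by
  obtain ⟨x, hx⟩ := hne
  obtain ⟨a, ha1, ha, Λ₁, hsub₁, hc₁, hmaps₁, hcov₁⟩ := exists_orbit hinj hmaps hx
  have hpa := pow_torusM_of_periodic (h0 x hx) ha
  have hNa := torusN_pos hq ha1
  rcases Nat.eq_zero_or_pos Λ₁.card with hz | hpos
  · refine ⟨torusN q a, x ^ torusN q a, hNa, fun y hy => ?_, fun h => ?_, fun h => ?_, fun h _ => ?_⟩
    · rcases hcov₁ y hy with h | ⟨i, -, rfl⟩
      · rw [Finset.card_eq_zero.1 hz] at h; exact absurd h (Finset.notMem_empty y)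
      · rw [iterate_tau_pow]
        exact Function.iterate_fixed (tau_eq_self_of_pow (by rw [← pow_mul]; exact hpa)) i
    · rw [show a = 1 by omega, torusN_one]
    · have := torusN_le_pow hq ha1; rw [show Λ.card = a by omega]; omega
    · have := torusN_lt hq (show 2 ≤ a by omega); rwa [show Λ.card = a by omega]
  obtain ⟨y, hy⟩ := Finset.card_pos.1 hpos
  obtain ⟨b, hb1, hb, Λ₂, hsub₂, hc₂, hmaps₂, hcov₂⟩ := exists_orbit hinj hmaps₁ hy
  have hy0 := h0 y (hsub₁ hy)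
  have hpb := pow_torusM_of_periodic hy0 hb
  have hNb := torusN_pos hq hb1
  have horb : ∀ {z : K} {D T : ℕ}, z ^ torusM q D = 1 → torusM q D ∣ T → ∀ i : ℕ, ((tau q)^[i] z) ^ T = 1 :=
    fun {z D T} hz ⟨t, ht⟩ i => by rw [iterate_tau_pow, ht, pow_mul, hz, one_pow, iterate_tau_one]
  have hassemble : ∀ T, torusM q a ∣ T → torusM q b ∣ T → (∀ z ∈ Λ₂, z ^ T = 1) → ∀ z ∈ Λ, z ^ T = 1 := by
    intro T hTa hTb hT z hz
    rcases hcov₁ z hz with h | ⟨i, -, rfl⟩
    · rcases hcov₂ z h with h' | ⟨i, -, rfl⟩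
      · exact hT z h'
      · exact horb hpb hTb i
    · exact horb hpa hTa i
  rcases Nat.eq_zero_or_pos Λ₂.card with hz₂ | hpos₂
  · have hT2 : ∀ T : ℕ, ∀ z ∈ Λ₂, z ^ T = 1 := fun T z hz => by
      rw [Finset.card_eq_zero.1 hz₂] at hz; exact absurd hz (Finset.notMem_empty z)
    have hq1 : ∀ D, q + 1 ∣ torusM q D := fun D => dvd_mul_left _ _
    have hone : torusM q 1 = q + 1 := by rw [torusM, torusN_one, one_mul]
    by_cases hab : a = 1 ∨ b = 1
    · obtain ⟨T, e, hTa, hTb, hTe, he⟩ : ∃ T e, torusM q a ∣ T ∧ torusM q b ∣ T ∧ T = torusM q e ∧ e = a + b - 1 := by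
        rcases hab with rfl | rfl
        · exact ⟨_, b, hone ▸ hq1 b, dvd_rfl, rfl, by omega⟩
        · exact ⟨_, a, dvd_rfl, hone ▸ hq1 a, rfl, by omega⟩
      refine ⟨T, 1, ?_, hassemble T hTa hTb (hT2 T), fun h => by omega, fun _ => ?_, fun h3 hodd => ?_⟩
      · subst hTe; exact Nat.mul_pos (torusN_pos hq (by omega)) (by omega)
      · rw [hTe, he, show Λ.card = a + b by omega]; exact torusM_le (by omega) _
      · have he' : e = Λ.card - 1 := by omega
        have : Even e := by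
          rw [he']; obtain ⟨k, hk⟩ := hodd; exact ⟨k, by omega⟩
        rw [hTe, torusM_eq_of_even (by omega) this, ← he']
        have := Nat.one_le_pow e q (by omega)
        omega
    · push Not at hab
      have hb2 := two_orbit_bound hq (show 2 ≤ a by omega) (show 2 ≤ b by omega)
      refine ⟨torusM q a * torusN q b, 1, Nat.mul_pos (Nat.mul_pos hNa (by omega)) hNb,
        hassemble _ (dvd_mul_right _ _) ?_ (hT2 _), fun h => by omega, fun _ => ?_, fun _ _ => ?_⟩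
      · exact ⟨torusN q a, by rw [torusM, torusM]; ring⟩
      · rw [show Λ.card = a + b by omega]; omega
      · rw [show Λ.card = a + b by omega]; exact hb2
  · obtain ⟨T', hT0, ⟨t, ht⟩, hT', hTle⟩ := exists_exponent_dvd hq hinj Λ₂.card Λ₂ rfl hpos₂
      (fun z hz => h0 z (hsub₁ (hsub₂ hz))) hmaps₂
    have hTb : torusN q a * torusN q b * T' + 1 ≤ q ^ (Λ.card - 1) := by
      obtain ⟨n, hn⟩ : ∃ n, Λ.card = n + 3 := ⟨Λ.card - 3, by omega⟩
      have h1 : torusN q a * torusN q b * T' ≤ (q + 1) * q ^ n :=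
        calc torusN q a * torusN q b * T' ≤ q ^ (a - 1) * q ^ (b - 1) * ((q + 1) * q ^ (Λ₂.card - 1)) :=
              Nat.mul_le_mul (Nat.mul_le_mul (torusN_le_pow hq ha1) (torusN_le_pow hq hb1)) hTle
          _ = (q + 1) * q ^ (a - 1 + (b - 1) + (Λ₂.card - 1)) := by ring
          _ = _ := by rw [show a - 1 + (b - 1) + (Λ₂.card - 1) = n by omega]
      rw [hn, show n + 3 - 1 = n + 2 by omega, pow_add]
      have := Nat.one_le_pow n q (by omega)
      have h2 : q ^ n * (q + 2) ≤ q ^ n * q ^ 2 := Nat.mul_le_mul_left _ (by nlinarith)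
      rw [mul_add, mul_comm (q ^ n) q] at h2
      rw [add_mul, one_mul] at h1
      omega
    refine ⟨torusN q a * torusN q b * T', 1, Nat.mul_pos (Nat.mul_pos hNa hNb) hT0,
      hassemble _ ⟨torusN q b * t, by rw [torusM, ht]; ring⟩ ⟨torusN q a * t, by rw [torusM, ht]; ring⟩
        (fun z hz => by rw [mul_comm, pow_mul, hT' z hz, one_pow]), fun h => by omega, fun _ => by omega,
      fun _ _ => hTb⟩

end CfsgLib.UnitaryOrder51
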