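import Cfsg.Agent.Lib.KnownSimple51.UnitaryOrder.Cyclic
import Cfsg.Agent.Lib.KnownSimple51.UnitaryOrder.Orbit
import Cfsg.Agent.Lib.PrimeClasses.Projective

/-!
Element orders in `PGU_n(q)`: an upper bound from the eigenvalues and cyclic elements with prescribed
eigenvalues.
-/

set_option autoImplicit false

namespace CfsgLib.UnitaryOrder51

open Polynomial Matrix CfsgLib.SemisimpleClass CfsgLib.CharBound.SUn CfsgLib.PSUTwist

variable {F : Type*} [Field F] [Fintype F] {n q : ℕ} (hF : Fintype.card F = q ^ 2)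
include hF

local notation "KK" => AlgebraicClosure F
set_option quotPrecheck false in
local notation "GUq" => ↥(Cfsg.GU n F q)
local notation "ι" => algebraMap F (AlgebraicClosure F)

theorem mk_eq_one_iff (z : GUq) :
    (QuotientGroup.mk z : GUq ⧸ Subgroup.center GUq) = 1 ↔
      ∃ k : F, z.1.1 = algebraMap F (Matrix (Fin n) (Fin n) F) k := by
  classical
  rw [QuotientGroup.eq_one_iff]
  constructor
  · intro h
    obtain ⟨a, ha, ha2⟩ := CfsgLib.ClassicalGroups.exists_norm_one_sq_ne hF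
    have ha0 : a ≠ 0 := fun h => by simp [h, zero_pow] at ha
    have hmono : ∀ (π : Equiv.Perm (Fin n)) (d : Fin n → Fˣ), (∀ j, (d j : F) ^ (q + 1) = 1) →
        ∀ u v : Fin n, z.1.1 (π u) (π v) * d v = d u * z.1.1 u v := by
      intro π d hd u v
      have hmem : CfsgLib.PrimeClasses.monomialGL π d ∈ Cfsg.GU n F q := by
        rw [mem_GU_adjM hF]
        ext i j
        rw [Matrix.mul_apply, Finset.sum_eq_single (π j)]
        · simp [adjM, CfsgLib.PrimeClasses.monomialGL, CfsgLib.PrimeClasses.monomial', Matrix.one_apply,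
            π.injective.eq_iff]
          split_ifs with h1 h2 h2
          · subst h1
            rw [(conj hF).hσ, ← pow_succ]
            exact hd j
          · exact absurd h1.symm h2
          · exact absurd h2.symm h1
          · simp
        · intro k _ hk
          simp [CfsgLib.PrimeClasses.monomialGL, CfsgLib.PrimeClasses.monomial', hk]
        · simp
      have h1 := congrArg (fun g : GUq => g.1.1 (π u) v) (Subgroup.mem_center_iff.1 h ⟨_, hmem⟩)
      simp only [MulMemClass.coe_mul, Units.val_mul, Matrix.mul_apply] at h1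
      rw [Finset.sum_eq_single u, Finset.sum_eq_single (π v)] at h1
      · simpa [CfsgLib.PrimeClasses.monomialGL, CfsgLib.PrimeClasses.monomial'] using h1.symm
      all_goals
        first
        | (intro k _ hk; simp [CfsgLib.PrimeClasses.monomialGL, CfsgLib.PrimeClasses.monomial', hk, Ne.symm hk,
            π.injective.eq_iff])
        | simp
    rcases isEmpty_or_nonempty (Fin n) with he | ⟨⟨j⟩⟩
    · exact ⟨0, Subsingleton.elim _ _⟩
    refine ⟨z.1.1 j j, ?_⟩
    ext r s
    rw [Matrix.algebraMap_matrix_apply]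
    rcases eq_or_ne r s with rfl | hrs
    · rw [if_pos rfl]
      simpa using (hmono (Equiv.swap r j) (fun _ => 1) (by simp) r r).symm
    · rw [if_neg hrs]
      have h1 := hmono 1 (Function.update (fun _ => 1) r (Units.mk0 a ha0))
        (fun i => by rcases eq_or_ne i r with rfl | hi <;> simp [*]) r s
      simp [hrs.symm] at h1
      have ha1 : a ≠ 1 := fun h => ha2 (by simp [h])
      by_contra hne
      exact ha1 (mul_right_cancel₀ hne (h1.symm.trans (one_mul _).symm))
  · rintro ⟨k, hk⟩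
    rw [Subgroup.mem_center_iff]
    intro h
    refine Subtype.ext (Units.ext ?_)
    show h.1.1 * z.1.1 = z.1.1 * h.1.1
    rw [hk]
    exact (Algebra.commutes k h.1.1).symm

theorem pow_mk_eq_one_iff (g : GUq) (N : ℕ) :
    (QuotientGroup.mk g : GUq ⧸ Subgroup.center GUq) ^ N = 1 ↔
      ∃ k : F, g.1.1 ^ N = algebraMap F (Matrix (Fin n) (Fin n) F) k := by
  rw [← QuotientGroup.mk_pow, mk_eq_one_iff hF]
  simp

variable (p : ℕ) [Fact p.Prime] [CharP F p]
include p

/-- The eigenvalues of a unitary matrix. -/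
theorem eigen_spec (g : GUq) :
    (g.1.1.charpoly.map ι).roots.card = n ∧
    (g.1.1.charpoly.map ι).roots.map (tau q) = (g.1.1.charpoly.map ι).roots ∧
    ∀ x ∈ (g.1.1.charpoly.map ι).roots, x ≠ 0 := by
  obtain ⟨e, -, hqe⟩ := CfsgLib.PSU3Spectrum.exists_exp hF p
  have : CharP KK p := charP_of_injective_algebraMap' F p
  let φ : KK →+* KK := iterateFrobenius KK p e
  have hφ : ∀ x, φ x = x ^ q := fun x => by rw [hqe]; rfl
  set f := g.1.1.charpoly
  set f0 := f.map ι with hf0
  set S := f0.roots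
  have hm : f.Monic := Matrix.charpoly_monic _
  have hX : adjM hF g.1.1 * g.1.1 = 1 := (mem_GU_adjM hF).1 g.2
  have hu : IsUnit g.1.1 := g.1.isUnit
  obtain ⟨c, hc0, hc⟩ : ∃ c : F, c ≠ 0 ∧ f.map (conj hF).σ = C c * f.reverse := by
    have h1 := Matrix.charpoly_inv g.1.1 hu
    rw [Matrix.inv_eq_left_inv hX, adjM, Matrix.charpoly_transpose, Matrix.charpoly_map, Fintype.card_fin,
      ← Matrix.reverse_charpoly, Ring.inverse_eq_inv'] at h1
    refine ⟨(-1) ^ n * (g.1.1.det)⁻¹, mul_ne_zero (pow_ne_zero _ (neg_ne_zero.2 one_ne_zero))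
      (inv_ne_zero ((Matrix.isUnit_iff_isUnit_det _).1 hu).ne_zero), ?_⟩
    rw [h1, map_mul, map_pow, map_neg, map_one]
  have hsp : f0.Splits := IsAlgClosed.splits f0
  have hm0 : f0.Monic := hm.map _
  have hcard : S.card = n := by
    rw [← hsp.natDegree_eq_card_roots, hf0, natDegree_map_eq_of_injective (ι).injective,
      Matrix.charpoly_natDegree_eq_dim, Fintype.card_fin]
  have hS0 : ∀ x ∈ S, x ≠ 0 := by
    intro x hx h
    rw [h, mem_roots hm0.ne_zero, IsRoot, ← coeff_zero_eq_eval_zero, hf0, coeff_map, map_eq_zero] at hx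
    have h2 := Matrix.det_eq_sign_charpoly_coeff g.1.1
    rw [hx, mul_zero] at h2
    exact ((Matrix.isUnit_iff_isUnit_det _).1 hu).ne_zero h2
  have hfac : f0 = (S.map fun x => X - C x).prod := hsp.eq_prod_roots_of_monic hm0
  have hmap : f0.map φ = C (ι c) * f0.reverse := by
    have h1 := congrArg (Polynomial.map ι) hc
    rw [Polynomial.map_map, Polynomial.map_mul, map_C] at h1
    rw [hf0, Polynomial.map_map, show φ.comp ι = (ι).comp (conj hF).σ from RingHom.ext fun x => by
      simp [hφ, (conj hF).hσ], h1]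
    congr 1
    ext k
    rw [coeff_map, coeff_reverse, coeff_reverse, coeff_map, natDegree_map_eq_of_injective (ι).injective]
  have hl : (f0.map φ).roots = S.map fun x => x ^ q := by
    rw [hsp.roots_map φ]
    exact Multiset.map_congr rfl fun x _ => hφ x
  have hprod : S.prod ≠ 0 := Multiset.prod_ne_zero fun h => hS0 0 h rfl
  have hr : (f0.reverse).roots = S.map fun x => x⁻¹ := by
    rw [hfac, reverse_prod_X_sub_C hS0, roots_C_mul _ (mul_ne_zero (pow_ne_zero _ (neg_ne_zero.2 one_ne_zero)) hprod),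
      roots_multiset_prod_X_sub_C]
  rw [hmap, roots_C_mul _ ((_root_.map_ne_zero _).2 hc0), hr] at hl
  have h := congrArg (Multiset.map fun x : KK => x⁻¹) hl
  rw [Multiset.map_map, Multiset.map_map] at h
  simp only [Function.comp_def, inv_inv, Multiset.map_id'] at h
  exact ⟨hcard, h.symm, hS0⟩

open scoped Classical in
/-- An order bound from the eigenvalues. -/
theorem orderOf_mk_le_of_eigen (hn : 1 ≤ n) (g : GUq) {T v : ℕ} (hT : 0 < T) {s : KK}
    (hx : ∀ x ∈ (g.1.1.charpoly.map ι).roots, x ^ (T * p ^ v) = s ∧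
      (g.1.1.charpoly.map ι).roots.count x ≤ p ^ v) :
    orderOf (QuotientGroup.mk g : GUq ⧸ Subgroup.center GUq) ≤ T * p ^ v := by
  have : CharP KK p := charP_of_injective_algebraMap' F p
  set S := (g.1.1.charpoly.map ι).roots
  set N := T * p ^ v
  have hN : 0 < N := Nat.mul_pos hT (pow_pos (Fact.out : p.Prime).pos v)
  have hne : (X ^ N - C s : (KK)[X]) ≠ 0 := X_pow_sub_C_ne_zero hN s
  have hdvd : g.1.1.charpoly.map ι ∣ X ^ N - C s := by
    rw [(IsAlgClosed.splits (g.1.1.charpoly.map ι)).eq_prod_roots_of_monic ((Matrix.charpoly_monic _).map _),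
      Multiset.prod_X_sub_C_dvd_iff_le_roots hne, Multiset.le_iff_count]
    intro x
    by_cases hxS : x ∈ S
    · obtain ⟨h1, h2⟩ := hx x hxS
      exact h2.trans (h1 ▸ le_count_roots p x hT v)
    · simp [Multiset.count_eq_zero_of_notMem hxS, S]
  obtain ⟨Q, hQ⟩ := hdvd
  have h := congrArg (Polynomial.aeval (g.1.1.map ι)) hQ
  rw [map_mul, ← Matrix.charpoly_map, Matrix.aeval_self_charpoly, zero_mul, map_sub, map_pow, aeval_X,
    aeval_C, sub_eq_zero] at h
  refine Nat.le_of_dvd hN (orderOf_dvd_of_pow_eq_one ?_)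
  rw [pow_mk_eq_one_iff hF]
  let j : Fin n := ⟨0, hn⟩
  refine ⟨(g.1.1 ^ N) j j, ?_⟩
  have h' : ∀ r t, ι ((g.1.1 ^ N) r t) = if r = t then s else 0 := fun r t => by
    have := congrFun (congrFun h r) t
    rw [show (g.1.1.map ι) ^ N = (g.1.1 ^ N).map ι from (map_pow (ι).mapMatrix g.1.1 N).symm,
      Matrix.map_apply, Matrix.algebraMap_matrix_apply] at this
    exact this
  ext r t
  apply (ι).injective
  rw [h', Matrix.algebraMap_matrix_apply]
  split_ifs <;> simp [h']

open scoped Classical in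
/-- The order of any element, split by eigenvalue count and multiplicity. -/
theorem exists_bound (hn : 1 ≤ n) (g : GUq) :
    ∃ S v T, 1 ≤ S ∧ S ≤ n ∧ (1 ≤ v → S + p ^ (v - 1) ≤ n) ∧ (S = 1 → T = 1) ∧
      (2 ≤ S → T ≤ q ^ (S - 1) + 1) ∧ (3 ≤ S → Odd S → T + 1 ≤ q ^ (S - 1)) ∧
      orderOf (QuotientGroup.mk g : GUq ⧸ Subgroup.center GUq) ≤ T * p ^ v := by
  obtain ⟨hcard, hcl, h0⟩ := eigen_spec hF p g
  set M := (g.1.1.charpoly.map ι).roots
  obtain ⟨x, hx⟩ := Multiset.card_pos_iff_exists_mem.1 (hcard ▸ hn)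
  have hmaps : ∀ y ∈ M.toFinset, tau q y ∈ M.toFinset := fun y hy => by
    rw [Multiset.mem_toFinset] at hy ⊢
    exact hcl ▸ Multiset.mem_map_of_mem _ hy
  obtain ⟨T, s, hT0, hT, hT1, hT2, hT3⟩ := exists_common_power (CfsgLib.UnitaryEmbed.q_gt_one hF)
    (tau_injective hF p) (Λ := M.toFinset) ⟨x, Multiset.mem_toFinset.2 hx⟩
    (fun y hy => h0 y (Multiset.mem_toFinset.1 hy)) hmaps
  have hex : ∃ v, ∀ y ∈ M, M.count y ≤ p ^ v :=
    ⟨n, fun y _ => (Multiset.count_le_card y M).trans (hcard.trans_le (Nat.lt_pow_self (Fact.out : p.Prime).one_lt).le)⟩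
  let v := Nat.find hex
  refine ⟨M.toFinset.card, v, T, Finset.card_pos.2 ⟨x, Multiset.mem_toFinset.2 hx⟩,
    (Multiset.toFinset_card_le M).trans hcard.le, fun hv => ?_, hT1, hT2, hT3, ?_⟩
  · have hlt : ¬ ∀ y ∈ M, M.count y ≤ p ^ (v - 1) := Nat.find_min hex (Nat.sub_lt hv one_pos)
    push Not at hlt
    obtain ⟨y, hy, hyc⟩ := hlt
    have hsum := Multiset.toFinset_sum_count_eq M
    rw [hcard, ← Finset.add_sum_erase _ _ (Multiset.mem_toFinset.2 hy)] at hsum
    have h1 : (M.toFinset.erase y).card ≤ ∑ z ∈ M.toFinset.erase y, M.count z :=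
      (Finset.card_eq_sum_ones _).trans_le (Finset.sum_le_sum fun z hz =>
        Multiset.one_le_count_iff_mem.2 (Multiset.mem_toFinset.1 (Finset.mem_of_mem_erase hz)))
    rw [Finset.card_erase_of_mem (Multiset.mem_toFinset.2 hy)] at h1
    omega
  · refine orderOf_mk_le_of_eigen hF p hn g hT0 (s := s ^ p ^ v) fun y hy => ⟨?_, Nat.find_spec hex y hy⟩
    rw [pow_mul, hT y (Multiset.mem_toFinset.2 hy)]

open scoped Classical in
/-- A cyclic unitary element with prescribed eigenvalues. -/
theorem exists_elem (hn : 1 ≤ n) {S : Multiset KK} (hcard : S.card = n) (hcl : S.map (tau q) = S)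
    (h0 : ∀ x ∈ S, x ≠ 0) :
    ∃ (g : GUq ⧸ Subgroup.center GUq) (v : ℕ) (s : KK), p ^ v ∣ orderOf g ∧
      ∀ x ∈ S, x ^ orderOf g = s ∧ S.count x ≤ p ^ v := by
  obtain ⟨e, -, hqe⟩ := CfsgLib.PSU3Spectrum.exists_exp hF p
  have : CharP KK p := charP_of_injective_algebraMap' F p
  let φ : KK →+* KK := iterateFrobenius KK p e
  have hφ : ∀ x, φ x = x ^ q := fun x => by rw [hqe]; rfl
  set f0 := (S.map fun x => X - C x).prod with hf0
  have hmapφ : ∀ T : Multiset KK, ((T.map fun x => X - C x).prod).map φ =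
      ((T.map fun x => x ^ q).map fun x => X - C x).prod := fun T => by
    rw [Polynomial.map_multiset_prod, Multiset.map_map, Multiset.map_map]
    exact congrArg Multiset.prod (Multiset.map_congr rfl fun x _ => by simp [hφ])
  have hSq : S.map (fun x => x ^ q) = S.map fun x => x⁻¹ := by
    conv_rhs => rw [← hcl]
    rw [Multiset.map_map]
    exact Multiset.map_congr rfl fun x _ => by simp [tau]
  have h1 : f0.map φ = ((S.map fun x => x⁻¹).map fun x => X - C x).prod := by rw [hf0, hmapφ, hSq]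
  have h2 : (f0.map φ).map φ = f0 := by
    rw [h1, hmapφ, hf0]
    refine congrArg (fun T : Multiset KK => (T.map fun x => X - C x).prod) ?_
    conv_rhs => rw [← hcl]
    rw [Multiset.map_map]
    exact Multiset.map_congr rfl fun x _ => by simp [tau, inv_pow]
  have hlift : f0 ∈ Polynomial.lifts ι := by
    rw [lifts_iff_coeff_lifts]
    intro k
    have h := congrArg (fun P : (KK)[X] => P.coeff k) h2
    simp only [coeff_map, hφ] at h
    rw [← pow_mul, ← pow_two] at h
    exact CfsgLib.PSU3Spectrum.mem_range_of_pow_eq hF h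
  have hm0 : f0.Monic := monic_multiset_prod_of_monic _ _ fun x _ => monic_X_sub_C x
  have hd0 : f0.natDegree = n := by rw [hf0, natDegree_multiset_prod_X_sub_C_eq_card, hcard]
  obtain ⟨f, hf, hfd, hfm⟩ := lifts_and_natDegree_eq_and_monic hlift hm0
  set c : KK := (-1) ^ S.card * S.prod
  have hr : f0.reverse = C c * f0.map φ := by rw [h1, hf0, reverse_prod_X_sub_C h0]
  have hc : ι (f.coeff 0) = c := by
    rw [← coeff_map, hf, hf0, Polynomial.Splits.coeff_zero_eq_prod_roots_of_monic
      (IsAlgClosed.splits _) hm0, hd0, hf0, roots_multiset_prod_X_sub_C, ← hcard]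
  have hc0 : c ≠ 0 := mul_ne_zero (pow_ne_zero _ (neg_ne_zero.2 one_ne_zero))
    (Multiset.prod_ne_zero fun h => h0 0 h rfl)
  have hf00 : f.coeff 0 ≠ 0 := fun h => hc0 (by rw [← hc, h, map_zero])
  have hcc : φ c * c = 1 := by
    have h3 := congrArg (fun P : (KK)[X] => P.coeff 0) hr
    simp only [coeff_reverse, hd0, revAt_le (Nat.zero_le n), Nat.sub_zero, coeff_C_mul, coeff_map] at h3
    rw [show f0.coeff n = 1 from hd0 ▸ hm0, show f0.coeff 0 = c by rw [← hf, coeff_map, hc]] at h3
    rw [mul_comm, ← h3]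
  have hrec : f.map (conj hF).σ = C ((conj hF).σ (f.coeff 0)) * f.reverse := by
    apply Polynomial.map_injective ι (ι).injective
    rw [Polynomial.map_map, show (ι).comp (conj hF).σ = φ.comp ι from RingHom.ext fun x => by
      simp [hφ, (conj hF).hσ], ← Polynomial.map_map, hf, Polynomial.map_mul, map_C,
      show ι ((conj hF).σ (f.coeff 0)) = φ c by rw [← hc, hφ, (conj hF).hσ, map_pow],
      show (f.reverse).map ι = f0.reverse by
        ext k
        rw [coeff_map, coeff_reverse, coeff_reverse, ← hf, coeff_map,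
          natDegree_map_eq_of_injective (ι).injective],
      hr, ← mul_assoc, ← C_mul, hcc, C_1, one_mul]
  obtain ⟨M, hM, hmin⟩ := exists_cyclic hF hfm (hfd.trans hd0) hf00 hrec hn
  let g₀ : GUq := ⟨⟨M, adjM hF M, mul_eq_one_comm.1 hM, hM⟩, (mem_GU_adjM hF).2 hM⟩
  let g : GUq ⧸ Subgroup.center GUq := QuotientGroup.mk g₀
  have : Finite GUq := inferInstance
  have ho : 0 < orderOf g := orderOf_pos g
  obtain ⟨k, hk⟩ := (pow_mk_eq_one_iff hF _ _).1 (pow_orderOf_eq_one g)
  replace hk : M ^ orderOf g = algebraMap F _ k := hk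
  obtain ⟨v, o', ho', hov⟩ := Nat.exists_eq_pow_mul_and_not_dvd ho.ne' p (Fact.out : p.Prime).one_lt.ne'
  have hle : S ≤ (X ^ orderOf g - C (ι k) : (KK)[X]).roots := by
    rw [← Multiset.prod_X_sub_C_dvd_iff_le_roots (X_pow_sub_C_ne_zero ho _), ← hf0, ← hf]
    have := Polynomial.map_dvd ι (hmin (X ^ orderOf g - C k) (by
      rw [map_sub, map_pow, aeval_X, aeval_C, hk, sub_self]))
    simpa using this
  have hroot : ∀ x ∈ S, x ^ orderOf g = ι k := fun x hx => by
    have h := (mem_roots (X_pow_sub_C_ne_zero ho _)).1 (Multiset.mem_of_le hle hx)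
    simpa [sub_eq_zero] using h
  refine ⟨g, v, ι k, hov ▸ dvd_mul_right _ _, fun x hx => ⟨hroot x hx, ?_⟩⟩
  refine (Multiset.le_iff_count.1 hle x).trans ?_
  rw [← hroot x hx, hov, mul_comm (p ^ v) o']
  exact count_roots_le p (h0 x hx) ho' v

end CfsgLib.UnitaryOrder51
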