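import Cfsg.Agent.Lib.KnownSimple51.UnitaryOrder.Main
import Cfsg.Agent.Lib.SpecUnitary.PSUClassify

/-!
An element of `PGU_n(q)` made of a torus orbit next to a regular unipotent block.
-/

set_option autoImplicit false

namespace CfsgLib.UnitaryOrder51

open Polynomial Matrix CfsgLib.PSUTwist

variable {F : Type*} [Field F] [Fintype F] {n q : ℕ} (hF : Fintype.card F = q ^ 2)
  (p : ℕ) [Fact p.Prime] [CharP F p]
include hF p

open scoped Classical in
theorem exists_witness {D k c : ℕ} (hD : 1 ≤ D) (hk : 1 ≤ k) (hn : D + k = n) (hc : c = 0 ∨ p ^ (c - 1) < k) :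
    ∃ g : ↥(Cfsg.GU n F q) ⧸ Subgroup.center ↥(Cfsg.GU n F q), torusM q D * p ^ c ∣ orderOf g := by
  have hq : 2 ≤ q := CfsgLib.UnitaryEmbed.q_gt_one hF
  have hp : p.Prime := Fact.out
  have hMpos : 0 < torusM q D := Nat.mul_pos (torusN_pos hq hD) (by omega)
  have hpM : ¬ p ∣ torusM q D := fun h => (hp.dvd_mul.1 h).elim
    (not_dvd_torusN hp (dvd_card_prime hF p) hD)
    (fun h1 => hp.not_dvd_one ((Nat.dvd_add_right (dvd_card_prime hF p)).1 h1))
  obtain ⟨z, hz⟩ := exists_root hF p (torusM q D) hMpos hpM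
  have hz1 : z ^ torusM q D = 1 := hz ▸ pow_orderOf_eq_one z
  have hz0 : z ≠ 0 := fun h => by rw [h, zero_pow hMpos.ne'] at hz1; exact zero_ne_one hz1
  have hcl := orb_closed ((periodic_iff hz0 D).2 hz1)
  set B := Multiset.replicate k (1 : AlgebraicClosure F)
  obtain ⟨g, v, s, hv, hg⟩ := exists_elem (n := n) hF p (by omega) (S := orb q z D + B)
    (by simp [orb_card, B, hn]) (closed_add hcl (closed_one k)) (fun x hx => by
      rcases Multiset.mem_add.1 hx with hx | hx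
      · obtain ⟨i, -, rfl⟩ := mem_orb.1 hx
        rw [iterate_tau_eq]; exact zpow_ne_zero _ hz0
      · rw [Multiset.eq_of_mem_replicate hx]; exact one_ne_zero)
  have h1 := hg 1 (Multiset.mem_add.2 (Or.inr (Multiset.mem_replicate.2 ⟨by omega, rfl⟩)))
  have hs : s = 1 := by rw [← h1.1, one_pow]
  have hTo : torusM q D ∣ orderOf g := hz ▸ orderOf_dvd_of_pow_eq_one
    ((hg z (Multiset.mem_add.2 (Or.inl (mem_orb.2 ⟨0, hD, rfl⟩)))).1.trans hs)
  have hkv : k ≤ p ^ v := le_trans (by simp [B, Multiset.count_add]) h1.2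
  exact ⟨g, ((hp.coprime_iff_not_dvd.2 hpM).symm.pow_right c).mul_dvd_of_dvd_of_dvd hTo
    (pow_dvd_of_lt hF p hc hkv hv)⟩

end CfsgLib.UnitaryOrder51
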